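import Cfsg.Agent.Lib.PGroup.Basic

/-!
Automorphisms of a finite `p`-group acting trivially on the Frattini quotient form a `p`-group.
(A light copy of part of `LocalEven.Out.AutTools`, which pulls in a heavy import closure.)
-/

set_option autoImplicit false

namespace CfsgLib.Fusion.J2Simple.FrattTools

open Subgroup

variable {A : Type*} [Group A]

/-- An invariant set and its fixed points have the same size modulo the order. -/
theorem ncard_modEq_fixed [Finite A] {ℓ : ℕ} [hℓ : Fact ℓ.Prime] {T : MulAut A} (hT : T ^ ℓ = 1)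
    (s : Set A) (hs : ∀ x ∈ s, T x ∈ s) : s.ncard ≡ {x ∈ s | T x = x}.ncard [MOD ℓ] := by
  classical
  let π : Equiv.Perm s :=
    { toFun := fun x => ⟨T x, hs x x.2⟩
      invFun := fun x => ⟨(T ^ (ℓ - 1)) x, by
        have hpow : ∀ n : ℕ, ∀ y ∈ s, (T ^ n) y ∈ s := fun n => by
          induction n with
          | zero => intro y hy; simpa using hy
          | succ n ih => intro y hy; rw [pow_succ', MulAut.mul_apply]; exact hs _ (ih y hy)
        exact hpow _ x x.2⟩
      left_inv := fun x => Subtype.ext (by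
        show (T ^ (ℓ - 1)) (T x) = x
        rw [← MulAut.mul_apply, ← pow_succ, Nat.sub_add_cancel hℓ.out.pos, hT, MulAut.one_apply])
      right_inv := fun x => Subtype.ext (by
        show T ((T ^ (ℓ - 1)) x) = x
        rw [← MulAut.mul_apply, ← pow_succ', Nat.sub_add_cancel hℓ.out.pos, hT, MulAut.one_apply]) }
  have hπpow : ∀ (n : ℕ) (x : s), (((π ^ n) x : s) : A) = (T ^ n) x := by
    intro n
    induction n with
    | zero => intro x; simp
    | succ n ih =>
      intro x
      rw [pow_succ', Equiv.Perm.mul_apply, pow_succ', MulAut.mul_apply, ← ih x]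
      rfl
  have hπ : π ^ ℓ = 1 := Equiv.ext fun x => Subtype.ext (by rw [hπpow, hT]; rfl)
  have hP : IsPGroup ℓ (zpowers π) := fun g => ⟨1, by
    obtain ⟨g, i, rfl⟩ := g
    refine Subtype.ext ?_
    show (π ^ i) ^ (ℓ ^ 1) = 1
    rw [pow_one, ← zpow_natCast, ← zpow_mul, mul_comm, zpow_mul, zpow_natCast, hπ, one_zpow]⟩
  have h := hP.card_modEq_card_fixedPoints s
  rw [Nat.card_coe_set_eq] at h
  suffices e : Nat.card (MulAction.fixedPoints (zpowers π) s) = {x ∈ s | T x = x}.ncard by
    rwa [e] at h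
  rw [← Nat.card_coe_set_eq]
  refine Nat.card_congr
    { toFun := fun x => ⟨((x : s) : A), (x : s).2,
        congrArg Subtype.val (x.2 ⟨π, mem_zpowers π⟩ : π (x : s) = (x : s))⟩
      invFun := fun x => ⟨⟨(x : A), x.2.1⟩, fun g => ?_⟩
      left_inv := fun x => rfl
      right_inv := fun x => rfl }
  have hfix : π ⟨(x : A), x.2.1⟩ = ⟨(x : A), x.2.1⟩ := Subtype.ext x.2.2
  have hstab : (g : Equiv.Perm s) ∈ MulAction.stabilizer (Equiv.Perm s) (⟨(x : A), x.2.1⟩ : s) :=
    (zpowers_le.2 (show π ∈ MulAction.stabilizer (Equiv.Perm s) (⟨(x : A), x.2.1⟩ : s) from hfix))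
      g.2
  exact hstab

/-- An invariant set of size prime to the order contains a fixed point. -/
theorem exists_fixed [Finite A] {ℓ : ℕ} [Fact ℓ.Prime] {T : MulAut A} (hT : T ^ ℓ = 1)
    (s : Set A) (hs : ∀ x ∈ s, T x ∈ s) (hcard : ¬ ℓ ∣ s.ncard) : ∃ x ∈ s, T x = x := by
  by_contra h
  push Not at h
  refine hcard ?_
  have h' := ncard_modEq_fixed hT s hs
  rw [show {x ∈ s | T x = x} = ∅ from Set.eq_empty_of_forall_notMem fun x hx => h x hx.1 hx.2,
    Set.ncard_empty] at h'
  exact Nat.modEq_zero_iff_dvd.1 h'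

/-- The fixed points of an automorphism. -/
def fixSubgroup (T : MulAut A) : Subgroup A := T.toMonoidHom.eqLocus (MonoidHom.id A)

theorem mem_fixSubgroup {T : MulAut A} {x : A} : x ∈ fixSubgroup T ↔ T x = x := Iff.rfl

/-- The order of an invariant subgroup and of its fixed points agree modulo the order. -/
theorem card_modEq_fixed [Finite A] {ℓ : ℕ} [Fact ℓ.Prime] {T : MulAut A} (hT : T ^ ℓ = 1)
    (U : Subgroup A) (hU : ∀ x ∈ U, T x ∈ U) :
    Nat.card U ≡ Nat.card ↥(U ⊓ fixSubgroup T) [MOD ℓ] := by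
  have h := ncard_modEq_fixed hT (U : Set A) hU
  rwa [← Nat.card_coe_set_eq, ← Nat.card_coe_set_eq] at h

variable {p : ℕ} [hp : Fact p.Prime]

/-- A p'-automorphism of prime order trivial on the Frattini quotient is trivial. -/
theorem eq_one_of_trivial_frattini [Finite A] (hA : IsPGroup p A) {ℓ : ℕ} [hℓ : Fact ℓ.Prime]
    (hℓp : ℓ ≠ p) {T : MulAut A} (hT : T ^ ℓ = 1) (h : ∀ x, x⁻¹ * T x ∈ frattini A) : T = 1 := by
  have htop : fixSubgroup T ⊔ frattini A = ⊤ := by
    refine eq_top_iff.2 fun g _ => ?_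
    obtain ⟨x, hx, hxf⟩ := exists_fixed hT {x | g⁻¹ * x ∈ frattini A} (fun x hx => by
      have h' := mul_mem (show g⁻¹ * x ∈ frattini A from hx) (h x)
      rwa [mul_assoc, mul_inv_cancel_left] at h') (by
      rw [show {x | g⁻¹ * x ∈ frattini A} = (fun y => g * y) '' (frattini A : Set A) by
          ext x
          exact ⟨fun hx => ⟨_, hx, mul_inv_cancel_left g x⟩, fun ⟨y, hy, e⟩ => by
            subst e; simpa using hy⟩,
        Set.ncard_image_of_injective _ (mul_right_injective g), ← Nat.card_coe_set_eq]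
      obtain ⟨k, hk⟩ := IsPGroup.iff_card.1 (hA.to_subgroup (frattini A))
      intro hd
      have hd' : ℓ ∣ p ^ k := hk ▸ hd
      exact hℓp ((Nat.prime_dvd_prime_iff_eq hℓ.out hp.out).1 (hℓ.out.dvd_of_dvd_pow hd')))
    have hg : g = x * (x⁻¹ * g) := by group
    rw [hg]
    refine mul_mem (mem_sup_left hxf) (mem_sup_right ?_)
    simpa using inv_mem (show g⁻¹ * x ∈ frattini A from hx)
  have := CfsgLib.PGroup.eq_top_of_sup_frattini htop
  exact MulEquiv.ext fun x => mem_fixSubgroup.1 (this ▸ mem_top x)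

/-- The action of the automorphism group on the Frattini quotient. -/
noncomputable def frattiniHom (A : Type*) [Group A] : MulAut A →* MulAut (A ⧸ frattini A) where
  toFun T := QuotientGroup.congr (frattini A) (frattini A) T
    (Subgroup.characteristic_iff_map_eq.1 inferInstance T)
  map_one' := MulEquiv.ext fun v => by
    induction v using QuotientGroup.induction_on with | _ x => rfl
  map_mul' S T := MulEquiv.ext fun v => by
    induction v using QuotientGroup.induction_on with | _ x => rfl

theorem frattiniHom_mk (T : MulAut A) (x : A) :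
    frattiniHom A T (x : A ⧸ frattini A) = (T x : A ⧸ frattini A) := rfl

theorem mem_ker_frattiniHom {T : MulAut A} :
    T ∈ (frattiniHom A).ker ↔ ∀ x, x⁻¹ * T x ∈ frattini A := by
  rw [MonoidHom.mem_ker]
  constructor
  · intro h x
    have h' := DFunLike.congr_fun h (x : A ⧸ frattini A)
    rw [frattiniHom_mk, MulAut.one_apply, eq_comm, QuotientGroup.eq] at h'
    exact h'
  · intro h
    refine MulEquiv.ext fun v => ?_
    induction v using QuotientGroup.induction_on with
    | _ x =>
      rw [frattiniHom_mk, MulAut.one_apply, eq_comm, QuotientGroup.eq]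
      exact h x

/-- A finite group whose elements of prime order `≠ p` are trivial is a p-group. -/
theorem isPGroup_of_prime_elements {H : Type*} [Group H] [Finite H]
    (h : ∀ ℓ : ℕ, ℓ.Prime → ℓ ≠ p → ∀ g : H, g ^ ℓ = 1 → g = 1) : IsPGroup p H := by
  refine IsPGroup.of_card (n := (Nat.card H).primeFactorsList.length) ?_
  refine Nat.eq_prime_pow_of_unique_prime_dvd Nat.card_pos.ne' fun {ℓ} hℓ hd => ?_
  by_contra hne
  haveI := Fact.mk hℓ
  obtain ⟨g, hg⟩ := exists_prime_orderOf_dvd_card' (G := H) ℓ hd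
  have := h ℓ hℓ hne g (by rw [← hg]; exact pow_orderOf_eq_one g)
  rw [this, orderOf_one] at hg
  exact hℓ.ne_one hg.symm

/-- The kernel on the Frattini quotient is a p-group. -/
theorem isPGroup_ker_frattiniHom [Finite A] (hA : IsPGroup p A) :
    IsPGroup p (frattiniHom A).ker := by
  haveI : Finite (MulAut A) :=
    Finite.of_injective (fun φ : MulAut A => (φ : A → A)) DFunLike.coe_injective
  refine isPGroup_of_prime_elements fun ℓ hℓ hne g hg => ?_
  haveI := Fact.mk hℓ
  exact Subtype.ext (eq_one_of_trivial_frattini hA hne (congrArg Subtype.val hg)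
    (mem_ker_frattiniHom.1 g.2))


end CfsgLib.Fusion.J2Simple.FrattTools
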