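import Cfsg.Agent.Lib.Fusion.J2Simple.Table
import Cfsg.Agent.Lib.Fusion.J2Simple.Frattini

/-!
The action of the automorphisms of the Sylow subgroup on its eight Frattini cosets.
-/

set_option autoImplicit false
set_option maxRecDepth 20000

namespace CfsgLib.Fusion.J2Simple



/-- The number of an element. -/
noncomputable def idxOf (s : sylS) : ℕ := Classical.choose ((mem_sylS).1 s.2)

theorem idxOf_spec (s : sylS) : idxOf s < 128 ∧ elt (idxOf s) = s.1 :=
  Classical.choose_spec ((mem_sylS).1 s.2)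

/-- The Frattini label of an element. -/
noncomputable def lb (s : sylS) : ℕ := labOf (idxOf s)

theorem lb_lt (s : sylS) : lb s < 8 := Nat.mod_lt _ (by norm_num)

theorem lb_elt {i : ℕ} (hi : i < 128) : lb ⟨elt i, elt_mem hi⟩ = labOf i :=
  congrArg labOf (elt_inj (idxOf_spec _).1 hi (idxOf_spec _).2)

theorem lb_mul (a b : sylS) : lb (a * b) = lb a ^^^ lb b := by
  obtain ⟨ha, ha'⟩ := idxOf_spec a
  obtain ⟨hb, hb'⟩ := idxOf_spec b
  have h := lab_hom
  simp only [List.all_eq_true, List.mem_range, Nat.beq_eq] at h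
  obtain ⟨h1, h2⟩ := mulI_spec ha hb
  have he : a * b = ⟨elt (mulI (idxOf a) (idxOf b)), elt_mem h1⟩ := Subtype.ext (by
    show a.1 * b.1 = elt (mulI (idxOf a) (idxOf b))
    rw [h2, ha', hb'])
  rw [he, lb_elt h1, h _ ha _ hb]
  rfl

theorem lb_sq (a : sylS) : lb (a * a) = 0 := by rw [lb_mul, Nat.xor_self]

theorem secOf_spec {w : ℕ} (hw : w < 8) : secOf w < 128 ∧ labOf (secOf w) = w := by
  have h := sec_ok
  simp only [List.all_eq_true, List.mem_range, Bool.and_eq_true, Nat.blt_eq, Nat.beq_eq] at h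
  exact h w hw

/-- The section of the labels. -/
noncomputable def secE (w : Fin 8) : sylS := ⟨elt (secOf w), elt_mem (secOf_spec w.2).1⟩

theorem lb_secE (w : Fin 8) : lb (secE w) = w := by
  rw [secE, lb_elt (secOf_spec w.2).1, (secOf_spec w.2).2]

/-- The label as an element of `Fin 8`. -/
noncomputable def lbF (s : sylS) : Fin 8 := ⟨lb s, lb_lt s⟩

theorem decomp_frattini (s : sylS) :
    ∃ a b : sylS, s = secE (lbF s) * (a * a * (b * b)) := by
  obtain ⟨hi, hi'⟩ := idxOf_spec s
  have h := frat_ok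
  simp only [List.all_eq_true, List.mem_range, List.any_eq_true, Bool.and_eq_true, Nat.blt_eq,
    Nat.beq_eq] at h
  obtain ⟨e, -, ⟨hp, hq⟩, he⟩ := h _ hi
  refine ⟨⟨elt e.1, elt_mem hp⟩, ⟨elt e.2, elt_mem hq⟩, Subtype.ext ?_⟩
  obtain ⟨h1, h2⟩ := mulI_spec hp hp
  obtain ⟨h3, h4⟩ := mulI_spec hq hq
  obtain ⟨h5, h6⟩ := mulI_spec h1 h3
  have hs := (secOf_spec (lb_lt s)).1
  have hs' : secOf (labOf (idxOf s)) < 128 := hs
  have e1 : elt (mulI (secOf (labOf (idxOf s))) (mulI (mulI e.1 e.1) (mulI e.2 e.2))) =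
      (secE (lbF s) : sylS).1 * (elt e.1 * elt e.1 * (elt e.2 * elt e.2)) := by
    rw [(mulI_spec hs' h5).2, h6, h2, h4]
    rfl
  rw [he] at e1
  exact hi'.symm.trans e1

theorem lb_aut (β : MulAut (sylS)) (s : sylS) :
    lb (β s) = lb (β (secE (lbF s))) := by
  obtain ⟨a, b, h⟩ := decomp_frattini s
  conv_lhs => rw [h]
  rw [map_mul, map_mul, map_mul, map_mul, lb_mul, lb_mul, lb_sq, lb_sq]
  simp

/-- The map on labels induced by an automorphism. -/
noncomputable def actFun (β : MulAut (sylS)) (w : Fin 8) : Fin 8 := lbF (β (secE w))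

theorem actFun_one (w : Fin 8) : actFun 1 w = w := Fin.ext (lb_secE w)

theorem actFun_mul (β γ : MulAut (sylS)) (w : Fin 8) :
    actFun (β * γ) w = actFun β (actFun γ w) := Fin.ext (lb_aut β (γ (secE w)))

/-- The action on labels. -/
noncomputable def labelPerm : MulAut (sylS) →* Equiv.Perm (Fin 8) where
  toFun β :=
    { toFun := actFun β
      invFun := actFun β⁻¹
      left_inv := fun w => by rw [← actFun_mul, inv_mul_cancel, actFun_one]
      right_inv := fun w => by rw [← actFun_mul, mul_inv_cancel, actFun_one] }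
  map_one' := Equiv.ext fun w => actFun_one w
  map_mul' β γ := Equiv.ext fun w => actFun_mul β γ w

theorem isPGroup_sylS : IsPGroup 2 (sylS) := IsPGroup.of_card (n := 7) (card_sylS)

theorem isPGroup_ker_labelPerm : IsPGroup 2 (labelPerm).ker := by
  have : Finite (sylS) := Nat.finite_of_card_ne_zero (by rw [card_sylS]; norm_num)
  have hS := isPGroup_sylS
  refine (FrattTools.isPGroup_ker_frattiniHom hS).to_le ?_
  intro β hβ
  rw [FrattTools.mem_ker_frattiniHom]
  intro x
  have h0 : lb (β x) = lb x := by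
    rw [lb_aut]
    exact congrArg Fin.val (DFunLike.congr_fun (MonoidHom.mem_ker.1 hβ) (lbF x))
  have hsq : ∀ a : sylS, a * a ∈ frattini (sylS) := fun a => by
    simpa [_root_.sq] using CfsgLib.PGroup.pow_mem_frattini hS a
  obtain ⟨a, b, ha⟩ := decomp_frattini x
  obtain ⟨c, d, hc⟩ := decomp_frattini (β x)
  rw [show lbF (β x) = lbF x from Fin.ext h0] at hc
  rw [hc]
  nth_rw 1 [ha]
  rw [mul_inv_rev, mul_assoc, inv_mul_cancel_left]
  exact mul_mem (inv_mem (mul_mem (hsq a) (hsq b))) (mul_mem (hsq c) (hsq d))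

/-- The value at a combination of the basis labels. -/
def comb (a b c : ℕ) (w : ℕ) : ℕ :=
  (if w.testBit 0 then a else 0) ^^^
    ((if w.testBit 1 then b else 0) ^^^ (if w.testBit 2 then c else 0))

theorem fin8_comb : ∀ w : Fin 8, comb 1 2 4 w.val = w.val := by decide +kernel

theorem labelPerm_comb (β : MulAut (sylS)) (w : Fin 8) :
    (labelPerm β w).val =
      comb (labelPerm β 1).val (labelPerm β 2).val (labelPerm β 4).val w.val := by
  set h : Fin 8 → ℕ := fun v => lb (β (secE v)) with hh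
  show h w = comb (h 1) (h 2) (h 4) w
  have hadd : ∀ (a b v : Fin 8), v.val = a.val ^^^ b.val → h v = h a ^^^ h b := fun a b v hv => by
    simp only [hh]
    rw [← lb_mul, ← map_mul, lb_aut β (secE a * secE b)]
    congr 2
    congr 1
    refine Fin.ext ?_
    show v.val = lb (secE a * secE b)
    rw [lb_mul, lb_secE, lb_secE, hv]
  have h0 : h 0 = 0 := by
    have := hadd 0 0 0 rfl
    rwa [Nat.xor_self] at this
  fin_cases w
  · simpa [comb] using h0
  · simp [comb, Nat.testBit]
  · simp [comb, Nat.testBit]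
  · simpa [comb, Nat.testBit] using hadd 1 2 3 rfl
  · simp [comb, Nat.testBit]
  · simpa [comb, Nat.testBit] using hadd 1 4 5 rfl
  · simpa [comb, Nat.testBit] using hadd 2 4 6 rfl
  · have e1 := hadd 2 4 6 rfl
    have e2 := hadd 1 6 7 rfl
    rw [e1] at e2
    simpa [comb, Nat.testBit] using e2

theorem triple_mem (β : MulAut (sylS)) :
    ((labelPerm β 1).val, (labelPerm β 2).val, (labelPerm β 4).val) ∈ tripleList := by
  refine triple_ok (labelPerm β 1) (labelPerm β 2) (labelPerm β 4) ?_ ?_
  · simp only [List.all_eq_true, List.mem_range, Bool.or_eq_true, Bool.not_eq_true', Nat.beq_eq]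
    intro v hv w hw
    by_cases hvw : v = w
    · exact Or.inl hvw
    refine Or.inr ?_
    rw [← Bool.not_eq_true, Nat.beq_eq]
    intro h
    have h1 := (labelPerm_comb β ⟨v, hv⟩).trans (h.trans (labelPerm_comb β ⟨w, hw⟩).symm)
    exact hvw (congrArg Fin.val ((labelPerm β).injective (Fin.ext h1)))
  · simp only [List.all_eq_true, List.mem_range, Bool.or_eq_true, Bool.not_eq_true']
    intro w hw
    by_cases hP : hasInvol.getD w false = false
    · exact Or.inl hP
    refine Or.inr ?_
    have h := wit_ok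
    simp only [List.all_eq_true, List.mem_range, Bool.or_eq_true, Bool.and_eq_true,
      Bool.not_eq_true', Nat.blt_eq, Nat.beq_eq] at h
    obtain ⟨⟨hi, hl⟩, hsq⟩ := (h w hw).resolve_left hP
    set s : sylS := ⟨elt (witList.getD w 0), elt_mem hi⟩ with hs
    have hss : s * s = 1 := Subtype.ext (by
      show elt _ * elt _ = 1
      rw [← (mulI_spec hi hi).2, hsq, elt_zero])
    have hbb : β s * β s = 1 := by rw [← map_mul, hss, map_one]
    obtain ⟨hj, hj'⟩ := idxOf_spec (β s)
    have hj0 : mulI (idxOf (β s)) (idxOf (β s)) = 0 := by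
      refine elt_inj (mulI_spec hj hj).1 (by norm_num) ?_
      rw [(mulI_spec hj hj).2, hj', elt_zero]
      exact congrArg Subtype.val hbb
    have h2 := invol_lab
    simp only [List.all_eq_true, List.mem_range, Bool.or_eq_true, Bool.not_eq_true'] at h2
    have h3 := (h2 _ hj).resolve_left (by rw [hj0]; simp)
    rw [show labOf (idxOf (β s)) = lb (β (secE (lbF s))) from lb_aut β s,
      show lbF s = ⟨w, hw⟩ from Fin.ext ((lb_elt hi).trans hl)] at h3
    exact (congrArg (fun x => hasInvol.getD x false) (labelPerm_comb β ⟨w, hw⟩)).symm.trans h3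

theorem card_range_labelPerm_le : Nat.card (labelPerm).range ≤ 6 := by
  let t : (labelPerm).range → {x : ℕ × ℕ × ℕ // x ∈ tripleList} := fun σ =>
    ⟨((σ.1 1).val, (σ.1 2).val, (σ.1 4).val), by
      obtain ⟨β, hβ⟩ := σ.2
      rw [← hβ]
      exact triple_mem β⟩
  have ht : Function.Injective t := by
    rintro ⟨_, β, rfl⟩ ⟨_, γ, rfl⟩ h
    have h' := congrArg Subtype.val h
    simp only [t, Prod.mk.injEq] at h'
    refine Subtype.ext (Equiv.ext fun w => Fin.ext ?_)
    rw [labelPerm_comb β w, labelPerm_comb γ w, h'.1, h'.2.1, h'.2.2]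
  refine (Nat.card_le_card_of_injective t ht).trans (le_of_le_of_eq ?_ tripleList_length)
  rw [Nat.card_congr (Equiv.subtypeEquivRight fun x => (List.mem_toFinset).symm),
    Nat.card_eq_fintype_card, Fintype.card_coe]
  exact List.toFinset_card_le _

end CfsgLib.Fusion.J2Simple
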