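import Mathlib
import Cfsg.Agent.Lib.Fusion.J2Simple.Data

/-!
The multiplication table shared by the Sylow 2-subgroups of the second and third Janko groups,
and the checks on it.
-/

set_option autoImplicit false
set_option maxRecDepth 20000

namespace CfsgLib.Fusion.J2Simple

/-- Right multiplication by the seven generators. -/
def stepTabs : List Nat := [0xfdffe7df5efc79eddfa75e5cf871ddbf66dd5af469cd9f265c58f061bd7ee5db56ec59ad5ea55a54e8519d3e64d952e4498d1e245850e0417cfde3d74edc396cdda3564cd8315cbd62d54ad4294c9d225448d0213c7ce1d346cc192c5ca15244c8111c3c60d142c4090c1c205040c001, 0xeddfa75e5cf871fdffe7df5efc79cf9b2e4c78b0e0dfbb6ecd7ab4e8952e4499f3a6cc850e0418f1a2c4b76acd8bd7ee5da74a8d0ad5ea5562c19b268d5b3770e5d3b7af1fbe40851234a913a652a15aa58b572f3a70f9e3260d9a2854b172044913183470f102450b0a103860200182, 0xc3831e2c997367d1a756bdbb37eee1c7973ebd3bf6f3e3dfaf9f7f7f9b327ce93225ca89163478106143b976f5fb166d5bab52bd6a3429d24e992a446890a05eb96ac56a94a86cdda3564cd8317cfde3d74edc393668c983c7ce1d26488902c5ca15142c4091e3868c040c0010e18284,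 0xfbf3ffef3e3dfae9d7b77e1c7973d9b776fd1a756bcb933e6c3831e2a146953ab52bd6b362ddab976f5f83021c28916347912654b9b327ce56a94a85cbd62d46890a04c9d22574edc397ef9ebc64cd8316ed9ab42c5ca15244c8113c7ce1d346cc190e1828406080801e3868c1628488, 0xddbf66dd5af469cd9f265c58f061fdffe7df5efc79eddfa75e5cf8719d3e64d952e4498d1e245850e041bd7ee5db56ec59ad5ea55a54e8515eb96ac56a94a84e992a446890a07ef9ebc76e9cb86ed9ab466c98b01e3868c16284880e1828406080803e78e9c3668c982e58a942648890, 0x870a0c08d1e245972a4c89d3e64da74a8d0ad5ea55b76acd8bd7ee5de5cf871efdbaf4f5efc79fffbefcc58f061cf9b2e4d5af469dfbb6ec1c3c60d142c4090c1c205040c0013c7ce1d346cc192c5ca15244c8117ef9ebc76e9cb86ed9ab466c98b05eb96ac56a94a84e992a446890a0, 0x52a15aa58b572f40851234a913a672e1dba78f5f3f60c59336ad1bb63260d9a3874f1f20449132a50b96122058a183470f00041030a10386fffbefcf7ebcf8efdbaf4e7cb8f0dfbb6ecd7ab4e8cf9b2e4c78b0e0bf7aedcb76acd8af5aad4a74a8d09f3a6cc972a4c88f1a2c4870a0c0]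

/-- Inverses. -/
def invTab : Nat := 0xfffbb77c3834e8f9f7af4c58f56bdfbb3e6e1c7cf8dbb32e4e5cfdfabf7a54b9b32cd8a3422c4850ebd69f3addab9764c88106ad4a54e347448d6ac76e9a356ed9c395eb902166c9ebc56a92a44e994a87cfd8313c7ce1d346cc192c5ca94244c8901e3860d142c4880c1c2050608080

/-- The Frattini labels. -/
def labTab : Nat := 0xff6dbfdbfff6ff6dbfdbfff6b6492d92db64b6492d92db646d249b49b6d26d249b49b6d2240009009240240009009240

/-- A section of the labels. -/
def secList : List Nat := [0, 2, 32, 34, 64, 66, 96, 98]

/-- The labels of elements of order at most two. -/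
def hasInvol : List Bool := [true, true, true, false, false, true, false, true]

/-- Elements of order at most two with given label. -/
def witList : List Nat := [0, 2, 38, 0, 0, 72, 0, 100]

/-- The possible images of a basis. -/
def tripleList : List (Nat × Nat × Nat) := [(1, 2, 4), (1, 2, 6), (1, 5, 3), (1, 5, 6), (1, 7, 3), (1, 7, 4)]

/-- Square roots for the Frattini subgroup. -/
def sqPairs : List (Nat × Nat) := [(0, 0), (0, 4), (0, 64), (0, 70), (0, 102), (0, 108), (0, 36), (0, 40), (0, 44), (0, 32), (0, 74), (0, 90), (0, 112), (0, 96), (0, 34), (0, 50)]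

/-- Elements with large centraliser, with two commutators. -/
def largeCent : List (Nat × Nat × Nat × Nat × Nat) := [(16, 6, 10, 6, 32), (17, 6, 10, 6, 32)]

/-- Right multiplication by a generator. -/
def stp (k i : ℕ) : ℕ := (stepTabs.getD k 0 >>> (7 * i)) % 128

/-- Inverse. -/
def ivOf (i : ℕ) : ℕ := (invTab >>> (7 * i)) % 128

/-- Frattini label. -/
def labOf (i : ℕ) : ℕ := (labTab >>> (3 * i)) % 8

/-- The section. -/
def secOf (w : ℕ) : ℕ := secList.getD w 0

/-- The product. -/
def mulI (i j : ℕ) : ℕ :=
  (List.range 7).foldl (fun a k => if j.testBit k then stp k a else a) i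

/-- The commutator. -/
def comI (i j : ℕ) : ℕ := mulI (mulI i j) (ivOf (mulI j i))

/-- The centraliser. -/
def centI (i : ℕ) : List ℕ := (List.range 128).filter fun j => (mulI i j).beq (mulI j i)

theorem decomp_ok : (List.range 128).all (fun j => (mulI 0 j).beq j) = true := by decide +kernel

theorem inv_ok : (List.range 128).all (fun i => (mulI i (ivOf i)).beq 0) = true := by
  decide +kernel

theorem lab_hom : (List.range 128).all (fun i => (List.range 128).all fun j =>
    (labOf (mulI i j)).beq (labOf i ^^^ labOf j)) = true := by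
  decide +kernel

theorem sec_ok : (List.range 8).all (fun w => (secOf w).blt 128 && (labOf (secOf w)).beq w) = true := by
  decide +kernel

theorem frat_ok : (List.range 128).all (fun i => sqPairs.any fun e => e.1.blt 128 && e.2.blt 128 &&
    (mulI (secOf (labOf i)) (mulI (mulI e.1 e.1) (mulI e.2 e.2))).beq i) = true := by
  decide +kernel

theorem invol_lab : (List.range 128).all (fun i => !(mulI i i).beq 0 ||
    hasInvol.getD (labOf i) false) = true := by
  decide +kernel

theorem wit_ok : (List.range 8).all (fun w => !hasInvol.getD w false ||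
    ((witList.getD w 0).blt 128 && (labOf (witList.getD w 0)).beq w &&
      (mulI (witList.getD w 0) (witList.getD w 0)).beq 0)) = true := by
  decide +kernel

theorem triple_ok : ∀ a b c : Fin 8,
    let m : ℕ → ℕ := fun w => (if w.testBit 0 then a.val else 0) ^^^
      ((if w.testBit 1 then b.val else 0) ^^^ (if w.testBit 2 then c.val else 0))
    ((List.range 8).all fun v => (List.range 8).all fun w => v.beq w || !(m v).beq (m w)) = true →
    ((List.range 8).all fun w => !hasInvol.getD w false || hasInvol.getD (m w) false) = true →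
    (a.val, b.val, c.val) ∈ tripleList := by
  decide +kernel

theorem tripleList_length : tripleList.length = 6 := rfl

theorem z_ok : ((mulI 1 1).beq 0 &&
    (List.range 128).all fun i => (mulI 1 i).beq (mulI i 1)) = true := by
  decide +kernel

theorem R_ok : (List.range 32).all (fun i => (List.range 32).all fun j =>
    (mulI i j).blt 32 && ((comI i j).beq 0 || (comI i j).beq 1)) = true := by
  decide +kernel

theorem R_normal : (List.range 128).all (fun s => (List.range 32).all fun r =>
    (mulI (mulI s r) (ivOf s)).blt 32) = true := by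
  decide +kernel

theorem large_cent : (List.range 128).all (fun x => x.blt 2 || (centI x).length.blt 64 ||
    ((centI x).length.beq 64 && largeCent.any fun e => e.1.beq x &&
      ((centI x).contains e.2.1 && (centI x).contains e.2.2.1 && (centI x).contains e.2.2.2.1 &&
        (centI x).contains e.2.2.2.2 && !(comI e.2.1 e.2.2.1).beq 0 &&
        !(comI e.2.2.2.1 e.2.2.2.2).beq 0 &&
        !(comI e.2.1 e.2.2.1).beq (comI e.2.2.2.1 e.2.2.2.2)))) = true := by
  decide +kernel

end CfsgLib.Fusion.J2Simple
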