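import Cfsg.Agent.Lib.Fusion.J2Simple.Data
import Cfsg.Agent.Lib.Fusion.J2Simple.Mult
import Cfsg.Agent.Lib.Golay.J2Check

/-!
The checks that are run on the data of the Sylow 2-subgroup of the Hall-Janko group.
-/

set_option autoImplicit false
set_option maxRecDepth 100000

namespace CfsgLib.Fusion.J2Simple

open CfsgLib.Golay
open CfsgLib.Golay.J2 (O levels)

/-- All the codes that are used. -/
def allCodes : List ℕ := cert.map (·.1)

/-- The code of an element of the Sylow subgroup. -/
def sc (i : ℕ) : ℕ := allCodes.getD i 0

theorem cert_ok : cert.all (fun e => O.ok e.1 && (Bsgs.prodReps O levels e.2).beq e.1) = true := by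
  decide +kernel

theorem sylCodes_in : (128).ble allCodes.length = true := by decide +kernel

theorem others_in : ([alphaCode, uCode, vCode] ++ conjZ.map (·.2) ++ conjList.map (·.2.2)).all
    (fun c => allCodes.contains c) = true := by
  decide +kernel

theorem step_ok : (List.range 7).all (fun k => (List.range 128).all fun i =>
    (O.mul (sc i) (sc (2 ^ k))).beq (sc (stp k i))) = true := by
  decide +kernel

theorem sc_zero : sc 0 = O.one := by decide +kernel

/-- The images of the base points. -/
noncomputable def sig (i : ℕ) : List ℕ := [0, 1, 36, 3, 2].map (O.img (sc i))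

theorem sig_nodup : (List.range 128).all (fun i => (List.range i).all fun j =>
    !(sig i == sig j)) = true := by
  decide +kernel

theorem center_ok : (List.range 128).all (fun i => i.blt 2 ||
    !((List.range 7).all fun k => (mulI i (2 ^ k)).beq (mulI (2 ^ k) i))) = true := by
  decide +kernel

theorem conjZ_ok : conjZ.all (fun e => e.1.blt 128 &&
    (O.mul e.2 (sc 1)).beq (O.mul (sc e.1) e.2)) = true := by
  decide +kernel

theorem conjList_ok : conjList.all (fun e => e.1.blt 128 && e.2.1.blt 32 &&
    (O.mul e.2.2 (sc e.2.1)).beq (O.mul (sc e.1) e.2.2)) = true := by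
  decide +kernel

theorem genR_ok : (List.range 5).all (fun k => (genR.getD k []).all (fun i =>
    i.beq 1 || conjZ.any fun e => e.1.beq i) && ((genR.getD k []).foldl mulI 0).beq (2 ^ k)) = true := by
  decide +kernel

theorem genList_ok : (List.range 7).all (fun k => (genList.getD k []).all (fun i =>
    i.blt 32 || conjList.any fun e => e.1.beq i) &&
      ((genList.getD k []).foldl mulI 0).beq (2 ^ k)) = true := by
  decide +kernel

theorem alpha_ok : ((O.mul uCode vCode).beq alphaCode &&
    (O.mul alphaCode (O.mul alphaCode alphaCode)).beq O.one &&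
    (O.mul uCode uCode).beq O.one &&
    (O.mul (O.mul (O.mul vCode vCode) (O.mul vCode vCode))
      (O.mul (O.mul vCode vCode) (O.mul vCode vCode))).beq O.one) = true := by
  decide +kernel

theorem alpha_norm : (List.range 7).all (fun k => (alphaPerm.getD k 0).blt 128 &&
    (O.mul alphaCode (sc (2 ^ k))).beq (O.mul (sc (alphaPerm.getD k 0)) alphaCode)) = true := by
  decide +kernel

theorem alpha_moves : (alphaPerm.getD 5 0).beq (2 ^ 5) = false := by decide +kernel

theorem uv_normR : [uCode, vCode].all (fun c => (List.range 32).all fun r =>
    (List.range 32).any fun r' => (O.mul c (sc r)).beq (O.mul (sc r') c)) = true := by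
  decide +kernel

end CfsgLib.Fusion.J2Simple
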