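import Cfsg.Agent.Lib.Fusion.J2Simple.Aut
import Cfsg.Agent.Lib.Fusion.LocalCrit
import Cfsg.Agent.Lib.Fusion.CentralQuotientSimple
import Cfsg.Agent.Lib.Fusion.Fused
import Cfsg.Agent.Lib.Ico.J2

/-!
The 2-fusion system of the Hall-Janko group is simple.
-/

set_option autoImplicit false
set_option maxRecDepth 20000

open Cfsg Cfsg.FusionSystem

namespace CfsgLib.Fusion.J2Simple


theorem isCentric_subR : (groupFusionSystem (sylS)).IsCentric (subR) := by
  classical
  refine ⟨subR_le, fun Q hQ x hx => ?_⟩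
  obtain ⟨-, hQS, g, rfl⟩ := isConj_groupFusion_iff.1 hQ
  obtain ⟨hxS, hxc⟩ := hx
  by_contra hxQ
  set z' : GJ := g * zElt * g⁻¹ with hz'
  have hz'Q : z' ∈ conjSub g (subR) := conj_mem_conjSub (zElt_mem_subR)
  have hpre : ∀ a ∈ conjSub g (subR), ∃ r ∈ subR, g * r * g⁻¹ = a := by
    intro a ha
    obtain ⟨r, hr, he⟩ := ha
    exact ⟨r, hr, he⟩
  have hcom : ∀ a ∈ conjSub g (subR), ∀ b ∈ conjSub g (subR),
      a * b * (b * a)⁻¹ = 1 ∨ a * b * (b * a)⁻¹ = z' := by
    intro a ha b hb
    obtain ⟨r, hr, rfl⟩ := hpre a ha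
    obtain ⟨t, ht, rfl⟩ := hpre b hb
    have e : g * r * g⁻¹ * (g * t * g⁻¹) * (g * t * g⁻¹ * (g * r * g⁻¹))⁻¹ =
        g * (r * t * (t * r)⁻¹) * g⁻¹ := by group
    rw [e]
    rcases subR_comm hr ht with h | h
    · exact Or.inl (by rw [h, mul_one, mul_inv_cancel])
    · exact Or.inr (by rw [h])
  have hxQc : ∀ q ∈ conjSub g (subR), q * x = x * q := fun q hq => hxc q hq
  have hz'c : ∀ q ∈ conjSub g (subR), q * z' = z' * q := by
    intro q hq
    obtain ⟨r, hr, rfl⟩ := hpre q hq
    rw [hz', show g * r * g⁻¹ * (g * zElt * g⁻¹) = g * (r * zElt) * g⁻¹ by group,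
      ← zElt_comm (subR_le hr)]
    group
  have hx1 : x ≠ 1 := fun h => hxQ (h ▸ Subgroup.one_mem _)
  set w : GJ := if x = zElt then z' else x with hw
  have hwS : w ∈ sylS := by rw [hw]; split_ifs; exacts [hQS hz'Q, hxS]
  have hwQ : ∀ q ∈ conjSub g (subR), q * w = w * q := by
    rw [hw]; split_ifs; exacts [hz'c, hxQc]
  have hwx : x * w = w * x := by
    rw [hw]; split_ifs with h
    · rw [h]; exact zElt_comm (hQS hz'Q)
    · rfl
  have hw1 : w ≠ 1 := by
    rw [hw]; split_ifs
    · intro h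
      exact zElt_ne_one (conj_eq_one_iff.1 h)
    · exact hx1
  have hwz : w ≠ zElt := by
    rw [hw]; split_ifs with h
    · intro h'
      exact hxQ (by rw [h, ← h']; exact hz'Q)
    · exact h
  obtain ⟨i, hi, hiw⟩ := (mem_sylS).1 hwS
  have hi2 : 2 ≤ i := by
    by_contra hlt
    obtain rfl | rfl : i = 0 ∨ i = 1 := by omega
    · exact hw1 (by rw [← hiw, elt_zero])
    · exact hwz hiw.symm
  -- the indices of `Q ∪ Qx`
  let M : Finset ℕ := (Finset.range 128).filter fun j =>
    elt j ∈ conjSub g (subR) ∨ ∃ q ∈ conjSub g (subR), elt j = q * x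
  have hMmem : ∀ j ∈ M, j < 128 ∧
      (elt j ∈ conjSub g (subR) ∨ ∃ q ∈ conjSub g (subR), elt j = q * x) := fun j hj =>
    ⟨Finset.mem_range.1 (Finset.mem_filter.1 hj).1, (Finset.mem_filter.1 hj).2⟩
  have hM : ∀ j ∈ M, j < 128 ∧ elt i * elt j = elt j * elt i := by
    intro j hj
    obtain ⟨hj1, hj2⟩ := hMmem j hj
    refine ⟨hj1, ?_⟩
    rw [hiw]
    rcases hj2 with h | ⟨q, hq, h⟩
    · exact (hwQ _ h).symm
    · rw [h, ← mul_assoc, ← hwQ q hq, mul_assoc, ← hwx, mul_assoc]
  have hM64 : 64 ≤ M.card := by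
    have hQcard : Nat.card (conjSub g (subR)) = 32 := by rw [card_conjSub, card_subR]
    let pick : conjSub g (subR) ⊕ conjSub g (subR) → M := fun u =>
      Sum.elim
        (fun q => ⟨Classical.choose ((mem_sylS).1 (hQS q.2)), by
          obtain ⟨h1, h2⟩ := Classical.choose_spec ((mem_sylS).1 (hQS q.2))
          exact Finset.mem_filter.2 ⟨Finset.mem_range.2 h1, Or.inl (h2.symm ▸ q.2)⟩⟩)
        (fun q => ⟨Classical.choose ((mem_sylS).1 (mul_mem (hQS q.2) hxS)), by
          obtain ⟨h1, h2⟩ := Classical.choose_spec ((mem_sylS).1 (mul_mem (hQS q.2) hxS))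
          exact Finset.mem_filter.2 ⟨Finset.mem_range.2 h1, Or.inr ⟨q.1, q.2, h2⟩⟩⟩) u
    have hval : ∀ u, elt (pick u).1 = Sum.elim (fun q => q.1) (fun q => q.1 * x) u := by
      rintro (q | q)
      · exact (Classical.choose_spec ((mem_sylS).1 (hQS q.2))).2
      · exact (Classical.choose_spec ((mem_sylS).1 (mul_mem (hQS q.2) hxS))).2
    have hinj : Function.Injective pick := by
      intro u v h
      have h' := (hval u).symm.trans ((congrArg (fun m : M => elt m.1) h).trans (hval v))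
      rcases u with a | a <;> rcases v with b | b <;>
        simp only [Sum.elim_inl, Sum.elim_inr] at h'
      · exact congrArg Sum.inl (Subtype.ext h')
      · exact absurd ((eq_inv_mul_of_mul_eq h'.symm) ▸
          Subgroup.mul_mem _ (Subgroup.inv_mem _ b.2) a.2) hxQ
      · exact absurd ((eq_inv_mul_of_mul_eq h') ▸
          Subgroup.mul_mem _ (Subgroup.inv_mem _ a.2) b.2) hxQ
      · exact congrArg Sum.inr (Subtype.ext (mul_right_cancel h'))
    have : Finite (conjSub g (subR)) := Nat.finite_of_card_ne_zero (by omega)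
    have := Nat.card_le_card_of_injective pick hinj
    rw [Nat.card_sum, hQcard, Nat.card_eq_fintype_card, Fintype.card_coe] at this
    omega
  obtain ⟨a, ha, b, hb, c, hc, d, hd, hab, hcd, hne⟩ := large_cent_spec hi hi2 M hM hM64
  have key : ∀ a ∈ M, ∀ b ∈ M, comI a b ≠ 0 → elt (comI a b) = z' := by
    intro a ha b hb h0
    obtain ⟨ha1, ha2⟩ := hMmem a ha
    obtain ⟨hb1, hb2⟩ := hMmem b hb
    rw [elt_comI ha1 hb1]
    have hne1 : elt a * elt b * (elt b * elt a)⁻¹ ≠ 1 := by
      rw [← elt_comI ha1 hb1]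
      exact fun h => h0 (elt_inj (comI_lt ha1 hb1) (by norm_num) (h.trans (elt_zero).symm))
    have ecom : ∃ p ∈ conjSub g (subR), ∃ q ∈ conjSub g (subR),
        elt a * elt b * (elt b * elt a)⁻¹ = p * q * (q * p)⁻¹ := by
      rcases ha2 with hA | ⟨p, hp, hA⟩ <;> rcases hb2 with hB | ⟨q, hq, hB⟩
      · exact ⟨_, hA, _, hB, rfl⟩
      · refine ⟨_, hA, q, hq, ?_⟩
        rw [hB, mul_assoc q x, ← hxQc _ hA]
        group
      · refine ⟨p, hp, _, hB, ?_⟩
        rw [hA, mul_assoc p x, ← hxQc _ hB]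
        group
      · refine ⟨p, hp, q, hq, ?_⟩
        rw [hA, hB, mul_assoc p x (q * x), ← mul_assoc x q x, ← hxQc q hq, mul_assoc q x (p * x),
          ← mul_assoc x p x, ← hxQc p hp]
        group
    obtain ⟨p, hp, q, hq, he⟩ := ecom
    rw [he] at hne1 ⊢
    exact (hcom p hp q hq).resolve_left hne1
  exact hne (elt_inj (comI_lt (hMmem a ha).1 (hMmem b hb).1)
    (comI_lt (hMmem c hc).1 (hMmem d hd).1) ((key a ha b hb hab).trans (key c hc d hd hcd).symm))

theorem stronglyClosed_sylS (P : Sylow 2 GJ) (hP : (P : Subgroup GJ) = sylS) {T : Subgroup GJ}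
    (hT : (groupFusionSystem sylS).StronglyClosed T) : T = ⊥ ∨ T = sylS := by
  by_cases hT1 : T = ⊥
  · exact Or.inl hT1
  refine Or.inr (le_antisymm hT.1 ?_)
  obtain ⟨c, hcT, hc1, hcc⟩ :=
    exists_central_mem_of_stronglyClosed P (hP.symm ▸ hT) hT1
  rw [hP] at hcc
  obtain ⟨i, hi, rfl⟩ := mem_sylS.1 (hT.1 hcT)
  have hz : zElt ∈ T := by
    have h := center_ok
    simp only [List.all_eq_true, List.mem_range, Bool.or_eq_true, Nat.blt_eq,
      Bool.not_eq_true'] at h
    rcases h i hi with h2 | h2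
    · obtain rfl | rfl : i = 0 ∨ i = 1 := by omega
      · exact absurd elt_zero hc1
      · exact hcT
    · exfalso
      obtain ⟨k, hk, hne⟩ := List.all_eq_false.1 h2
      rw [List.mem_range] at hk
      apply hne
      have hk' : 2 ^ k < 128 := Nat.pow_lt_pow_right (a := 2) (n := 7) (by norm_num) hk
      rw [Nat.beq_eq]
      refine elt_inj (mulI_spec hi hk').1 (mulI_spec hk' hi).1 ?_
      rw [(mulI_spec hi hk').2, (mulI_spec hk' hi).2, hcc _ (elt_mem hk')]
  have hfz : ∀ j, (j = 1 ∨ ∃ e ∈ conjZ, e.1 = j) → j < 128 ∧ elt j ∈ T := by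
    rintro j (rfl | ⟨e, he, rfl⟩)
    · exact ⟨by norm_num, hz⟩
    · obtain ⟨hj, x, hx⟩ := conjZ_spec (i := e.1) (g := e.2) he
      exact ⟨hj, hx ▸ fused_mem_of_stronglyClosed hT hz (Fused.conj x Fused.base (hx.symm ▸ elt_mem hj))⟩
  have hR : subR ≤ T := subR_le_of_gens fun k hk => by
    have h := genR_ok
    simp only [List.all_eq_true, List.mem_range, Bool.and_eq_true, Bool.or_eq_true, Nat.beq_eq,
      List.any_eq_true] at h
    obtain ⟨h1, h2⟩ := h k hk
    rw [← h2]
    exact (foldl_mem _ 0 (fun j hj => hfz j (h1 j hj)) (by norm_num)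
      (elt_zero ▸ T.one_mem)).2
  refine sylS_le_of_gens fun k hk => ?_
  have h := genList_ok
  simp only [List.all_eq_true, List.mem_range, Bool.and_eq_true, Bool.or_eq_true, Nat.beq_eq,
    Nat.blt_eq, List.any_eq_true] at h
  obtain ⟨h1, h2⟩ := h k hk
  rw [← h2]
  refine (foldl_mem _ 0 (fun j hj => ?_) (by norm_num) (elt_zero ▸ T.one_mem)).2
  rcases h1 j hj with hj32 | ⟨e, he, rfl⟩
  · exact ⟨by omega, hR (mem_subR.2 ⟨j, hj32, rfl⟩)⟩
  · obtain ⟨hj, hr, x, hx⟩ := conjList_spec he
    have hrT : elt e.2.1 ∈ T := hR (mem_subR.2 ⟨_, hr, rfl⟩)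
    refine ⟨hj, hx ▸ fused_mem_of_stronglyClosed hT hrT (Fused.conj x Fused.base ?_)⟩
    rw [hx]
    exact elt_mem hj

theorem alpha_mem_normalizer : alphaElt ∈ Subgroup.normalizer (sylS : Set (GJ)) := by
  have : Finite (sylS) := Nat.finite_of_card_ne_zero (by rw [card_sylS]; norm_num)
  refine mem_normalizer_of_forall fun x hx => ?_
  exact sylS_le_of_gens (T := (sylS).comap (MulAut.conj (alphaElt)).toMonoidHom)
    (fun k hk => by
      show alphaElt * elt (2 ^ k) * (alphaElt)⁻¹ ∈ sylS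
      rw [(alpha_conj hk).2]
      exact elt_mem (alpha_conj hk).1) hx

theorem sylS_normalizes_subR : sylS ≤ Subgroup.normalizer (subR : Set (GJ)) := by
  have : Finite (subR) := Nat.finite_of_card_ne_zero (by rw [card_subR]; norm_num)
  exact fun s hs => mem_normalizer_of_forall fun r hr => sylS_le_normalizer_subR hs hr

theorem isSimple_sylS [Finite (GJ)] (S : Sylow 2 (GJ))
    (hS : (S : Subgroup (GJ)) = sylS) :
    (groupFusionSystem (S : Subgroup (GJ))).IsSimple 2 := by
  have : Finite (sylS) := inferInstance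
  have hRS : subR ≤ (S : Subgroup (GJ)) := hS ▸ subR_le
  have hne : (S : Subgroup (GJ)) ≠ ⊥ := by
    rw [hS]
    intro h
    have := card_sylS
    rw [h, Subgroup.card_bot] at this
    norm_num at this
  refine isSimple_of_criterion S.2 (isSaturated_groupFusion S) hne ?_ fun E hEs hinv => ?_
  · intro T hT
    rw [hS] at hT ⊢
    exact stronglyClosed_sylS S hS hT
  have haN : alphaElt ∈ Subgroup.normalizer ((S : Subgroup (GJ)) : Set (GJ)) := by
    rw [hS]; exact alpha_mem_normalizer
  obtain ⟨huv, ha3, hu, hv⟩ := alpha_facts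
  have : Finite (subR) := inferInstance
  have hloc : normAut (alphaElt) haN ∈ E.autGroup (S : Subgroup (GJ)) := by
    refine normAut_mem_of_local S hEs hinv hRS (hS ▸ sylS_normalizes_subR) ?_ haN ?_
    · rw [hS]; exact isCentric_subR
    rw [← huv]
    refine mul_mem (Subgroup.subset_closure ⟨mem_normalizer_of_forall fun r hr =>
      uv_conjR (Or.inl rfl) hr, ?_⟩) (Subgroup.subset_closure
      ⟨mem_normalizer_of_forall fun r hr => uv_conjR (Or.inr rfl) hr, ?_⟩)
    · obtain ⟨k, -, hk⟩ := (Nat.dvd_prime_pow Nat.prime_two).1 (orderOf_dvd_of_pow_eq_one hu)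
      exact ⟨k, hk⟩
    · obtain ⟨k, -, hk⟩ := (Nat.dvd_prime_pow Nat.prime_two).1 (orderOf_dvd_of_pow_eq_one hv)
      exact ⟨k, hk⟩
  set A := (groupFusionSystem (S : Subgroup (GJ))).autGroup (S : Subgroup (GJ)) with hA
  set I := autInducedBy (S : Subgroup (GJ)) (S : Subgroup (GJ)) with hI
  set B := E.autGroup (S : Subgroup (GJ)) ⊓ A with hB
  have hIA : I ≤ A := autInducedBy_le_autGroup le_rfl
  have hIB : I ≤ B := by
    refine le_inf ?_ hIA
    rw [hI, ← inn_eq]
    exact inn_le_autGroup le_rfl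
  have haA : normAut (alphaElt) haN ∈ A := by
    rw [hA, autGroup_groupFusion le_rfl]
    exact mem_autInducedBy_iff.2 ⟨alphaElt, trivial, fun x => rfl⟩
  -- `Inn` has odd index
  have hodd : ¬ 2 ∣ I.relIndex A := by
    have hfn : (groupFusionSystem (S : Subgroup (GJ))).IsFullyNormalized (S : Subgroup (GJ)) := by
      refine ⟨le_rfl, fun Q hQ => ?_⟩
      rw [show normalizerIn (S : Subgroup (GJ)) (S : Subgroup (GJ)) = (S : Subgroup (GJ)) from
        le_antisymm (normalizerIn_le (S : Subgroup (GJ))) (le_inf le_rfl Subgroup.le_normalizer)]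
      exact Subgroup.card_le_of_le (normalizerIn_le Q)
    exact ((isFullyAutomized_iff S.2).1
      (fullyAutomized_receptive_of_fullyNormalized S.2 (isSaturated_groupFusion S) hfn).1).2
  -- the odd part is at most six
  have hle6 : I.relIndex A ≤ 6 := by
    have hfin : Finite (MulAut (S : Subgroup (GJ))) :=
      Finite.of_injective (fun φ : MulAut (S : Subgroup (GJ)) => ⇑φ) DFunLike.coe_injective
    let e : MulAut (S : Subgroup (GJ)) ≃* MulAut (sylS) := MulAut.congr (MulEquiv.subgroupCongr hS)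
    let f : A →* Equiv.Perm (Fin 8) := (labelPerm).comp (e.toMonoidHom.comp A.subtype)
    have hker : IsPGroup 2 f.ker := by
      refine (isPGroup_ker_labelPerm).of_injective
        (((e.toMonoidHom.comp A.subtype).comp f.ker.subtype).codRestrict _ fun a => a.2) ?_
      intro a b h
      exact Subtype.ext (Subtype.ext (e.injective (congrArg Subtype.val h)))
    obtain ⟨n, hn⟩ := IsPGroup.iff_card.1 hker
    have h1 : Nat.card A = Nat.card f.range * 2 ^ n := by
      rw [← hn, ← Nat.card_congr (QuotientGroup.quotientKerEquivRange f).toEquiv]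
      exact Subgroup.card_eq_card_quotient_mul_card_subgroup _
    have hr : Nat.card f.range ≤ 6 := by
      refine le_trans (Subgroup.card_le_of_le ?_) (card_range_labelPerm_le)
      rintro _ ⟨a, rfl⟩
      exact ⟨_, rfl⟩
    have h2 : I.relIndex A ∣ Nat.card f.range * 2 ^ n := h1 ▸ Subgroup.relIndex_dvd_card I A
    have hcop : (I.relIndex A).Coprime (2 ^ n) :=
      Nat.Coprime.pow_right n ((Nat.prime_two.coprime_iff_not_dvd.2 hodd).symm)
    exact (Nat.le_of_dvd Nat.card_pos (hcop.dvd_of_dvd_mul_right h2)).trans hr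
  -- three divides the index of `Inn` in `B`
  have h3 : 3 ∣ I.relIndex B := by
    have ho : orderOf (normAut (alphaElt) haN) = 3 := by
      haveI : Fact (Nat.Prime 3) := ⟨Nat.prime_three⟩
      refine orderOf_eq_prime ?_ ?_
      · show (S : Subgroup (GJ)).normalizerMonoidHom ⟨_, haN⟩ ^ 3 = 1
        rw [← map_pow, show (⟨alphaElt, haN⟩ :
          Subgroup.normalizer ((S : Subgroup (GJ)) : Set (GJ))) ^ 3 = 1 from Subtype.ext ha3, map_one]
      · intro h
        have hmem : elt (2 ^ 5) ∈ (S : Subgroup (GJ)) := by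
          rw [hS]; exact elt_mem (by norm_num)
        have h5 := congrArg Subtype.val (DFunLike.congr_fun h ⟨_, hmem⟩)
        rw [normAut_apply, (alpha_conj (show 5 < 7 by norm_num)).2, MulAut.one_apply] at h5
        have h6 := elt_inj (j := 2 ^ 5) (alpha_conj (show 5 < 7 by norm_num)).1 (by norm_num) h5
        have h7 := alpha_moves
        rw [h6] at h7
        simp at h7
    have hd : 3 ∣ Nat.card B := by
      exact (dvd_of_eq ho.symm).trans (Subgroup.orderOf_dvd_natCard B ⟨hloc, haA⟩)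
    obtain ⟨n, hn⟩ := IsPGroup.iff_card.1 (isPGroup_autInducedBy S.2 (S : Subgroup (GJ)))
    rw [← Subgroup.relIndex_bot_left B, ← Subgroup.relIndex_mul_relIndex ⊥ I B bot_le hIB,
      Subgroup.relIndex_bot_left, hI, hn] at hd
    exact ((Nat.Coprime.pow_right n (by norm_num : Nat.Coprime 3 2))).dvd_of_dvd_mul_left hd
  have hmul := Subgroup.relIndex_mul_relIndex I B A hIB inf_le_right
  have hBA : B.relIndex A = 1 := by
    obtain ⟨k, hk⟩ := h3
    rw [hk] at hmul
    rw [← hmul] at hodd hle6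
    have hpos : 0 < B.relIndex A := Nat.pos_of_ne_zero fun h => hodd (by rw [h, mul_zero]; exact dvd_zero 2)
    have hkpos : 0 < k := Nat.pos_of_ne_zero fun h => hodd (by rw [h]; simp)
    have : B.relIndex A ≤ 2 := by nlinarith
    rcases (show B.relIndex A = 1 ∨ B.relIndex A = 2 by omega) with h | h
    · exact h
    · rw [h] at hodd
      exact absurd (dvd_mul_left 2 _) hodd
  exact (Subgroup.relIndex_eq_one.1 hBA).trans inf_le_left

theorem exists_sylow_sylS : ∃ P : Sylow 2 GJ, (P : Subgroup GJ) = sylS := by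
  refine ⟨Sylow.ofCard sylS ?_, rfl⟩
  rw [card_sylS, CfsgLib.Golay.J2.card_grpJ2, show (604800 : ℕ) = 2 ^ 7 * 4725 by norm_num,
    Nat.factorization_mul (by norm_num) (by norm_num), Finsupp.add_apply,
    Nat.Prime.factorization_pow Nat.prime_two, Finsupp.single_eq_same,
    Nat.factorization_eq_zero_of_not_dvd (by norm_num : ¬ 2 ∣ 4725)]
  norm_num

/-- The 2-fusion system of the Hall-Janko group is simple. -/
theorem isSimple_of_isoJ2 {G : Type*} [Group G] [Finite G] (hG : Cfsg.Spor.IsoJ2 G)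
    (S : Sylow 2 G) : (groupFusionSystem (S : Subgroup G)).IsSimple 2 := by
  obtain ⟨e₁⟩ := hG
  obtain ⟨e₂⟩ := CfsgLib.Ico.j2_equiv
  let e : GJ ≃* G := (e₁.trans e₂).symm
  obtain ⟨P, hP⟩ := exists_sylow_sylS
  obtain ⟨k, hk⟩ := MulAction.exists_smul_eq G (P.mapSurjective (f := e.toMonoidHom) e.surjective) S
  let π : GJ →* G := (MulAut.conj k).toMonoidHom.comp e.toMonoidHom
  have hmap : (P : Subgroup GJ).map π = (S : Subgroup G) := by
    rw [← hk, ← Subgroup.map_map]
    rfl
  have hπinj : Function.Injective π := (MulAut.conj k).injective.comp e.injective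
  refine (transported_groupFusion_central π ((MulAut.conj k).surjective.comp e.surjective)
    ((π.ker_eq_bot_iff.2 hπinj).le.trans bot_le) (fun z hz => ?_) P.2 hmap).isSimple P.2
    (isSimple_sylS P hP)
  rw [π.ker_eq_bot_iff.2 hπinj, Subgroup.mem_bot] at hz
  rw [hz, orderOf_one]
  exact Nat.coprime_one_left 2

end CfsgLib.Fusion.J2Simple
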