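import Cfsg.Agent.Lib.Fusion.J2Simple.Checks
import Cfsg.Agent.Lib.Golay.J2

/-!
The elements of the Sylow 2-subgroup and the facts about them read off from the checks.
-/

set_option autoImplicit false
set_option maxRecDepth 20000

namespace CfsgLib.Fusion.J2Simple

open CfsgLib.Golay
open CfsgLib.Golay.J2 (O levels grpJ2)

/-- The group. -/
abbrev GJ : Type := ↥grpJ2

theorem code_spec {c : ℕ} (h : allCodes.contains c = true) : O.ok c = true ∧ O.val c ∈ grpJ2 := by
  obtain ⟨e, he, rfl⟩ := List.mem_map.1 (List.contains_iff_mem.1 h)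
  have h1 := cert_ok
  simp only [List.all_eq_true, Bool.and_eq_true, Nat.beq_eq] at h1
  obtain ⟨h2, h3⟩ := h1 e he
  refine ⟨h2, ?_⟩
  rw [← h3]
  exact (J2.levels_spec.2.2.1 e.2).2

/-- A listed code as an element of the group. -/
noncomputable def el (c : ℕ) (h : allCodes.contains c = true) : GJ := ⟨O.val c, (code_spec h).2⟩

theorem el_mul {a b c : ℕ} (ha : allCodes.contains a = true) (hb : allCodes.contains b = true)
    (hc : allCodes.contains c = true) (h : O.mul a b = c) : el a ha * el b hb = el c hc :=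
  Subtype.ext (by
    show O.val a * O.val b = O.val c
    rw [← h, O.val_mul _ _ (code_spec ha).1 (code_spec hb).1])

theorem el_eq_one {a : ℕ} (ha : allCodes.contains a = true) (h : a = O.one) : el a ha = 1 :=
  Subtype.ext (by subst h; exact O.val_one)

theorem sc_in {i : ℕ} (hi : i < 128) : allCodes.contains (sc i) = true := by
  have h : i < allCodes.length := lt_of_lt_of_le hi (Nat.le_of_ble_eq_true sylCodes_in)
  rw [List.contains_iff_mem, sc, List.getD_eq_getElem _ _ h]
  exact List.getElem_mem h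

/-- An element of the Sylow subgroup. -/
noncomputable def elt (i : ℕ) : GJ := if h : i < 128 then el (sc i) (sc_in h) else 1

theorem elt_eq {i : ℕ} (hi : i < 128) : elt i = el (sc i) (sc_in hi) := dif_pos hi

theorem elt_zero : elt 0 = 1 := by
  rw [elt_eq (by norm_num)]
  exact el_eq_one _ sc_zero

theorem elt_step {k i : ℕ} (hk : k < 7) (hi : i < 128) :
    stp k i < 128 ∧ elt i * elt (2 ^ k) = elt (stp k i) := by
  have h2 : stp k i < 128 := Nat.mod_lt _ (by norm_num)
  have hk' : 2 ^ k < 128 := Nat.pow_lt_pow_right (a := 2) (n := 7) (by norm_num) hk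
  refine ⟨h2, ?_⟩
  rw [elt_eq hi, elt_eq hk', elt_eq h2]
  have h := step_ok
  simp only [List.all_eq_true, List.mem_range, Nat.beq_eq] at h
  exact el_mul _ _ _ (h k hk i hi)

/-- The factor of a product at a position. -/
noncomputable def fac (j k : ℕ) : GJ := if j.testBit k then elt (2 ^ k) else 1

theorem fold_spec (j : ℕ) : ∀ (ks : List ℕ) (i : ℕ), (∀ k ∈ ks, k < 7) → i < 128 →
    ks.foldl (fun a k => if j.testBit k then stp k a else a) i < 128 ∧
      elt (ks.foldl (fun a k => if j.testBit k then stp k a else a) i) =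
        elt i * (ks.map (fac j)).prod
  | [], i, _, hi => ⟨hi, by simp⟩
  | k :: ks, i, hks, hi => by
    obtain ⟨hs, he⟩ := elt_step (hks k List.mem_cons_self) hi
    simp only [List.foldl_cons, List.map_cons, List.prod_cons, fac]
    cases hb : j.testBit k
    · simp only [Bool.false_eq_true, if_false, one_mul]
      exact fold_spec j ks i (fun x hx => hks x (List.mem_cons_of_mem _ hx)) hi
    · simp only [if_true]
      obtain ⟨h1, h2⟩ := fold_spec j ks _ (fun x hx => hks x (List.mem_cons_of_mem _ hx)) hs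
      exact ⟨h1, by rw [h2, ← he, mul_assoc]⟩

theorem mulI_spec {i j : ℕ} (hi : i < 128) (hj : j < 128) :
    mulI i j < 128 ∧ elt (mulI i j) = elt i * elt j := by
  obtain ⟨h1, h2⟩ := fold_spec j (List.range 7) i (fun k hk => List.mem_range.1 hk) hi
  obtain ⟨-, h3⟩ := fold_spec j (List.range 7) 0 (fun k hk => List.mem_range.1 hk) (by norm_num)
  have h := decomp_ok
  simp only [List.all_eq_true, List.mem_range, Nat.beq_eq] at h
  rw [show (List.range 7).foldl (fun a k => if j.testBit k then stp k a else a) 0 = j from h j hj,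
    elt_zero, one_mul] at h3
  exact ⟨h1, by rw [mulI, h2, ← h3]⟩

theorem ivOf_lt (i : ℕ) : ivOf i < 128 := Nat.mod_lt _ (by norm_num)

theorem elt_ivOf {i : ℕ} (hi : i < 128) : elt (ivOf i) = (elt i)⁻¹ := by
  have h := inv_ok
  simp only [List.all_eq_true, List.mem_range, Nat.beq_eq] at h
  refine eq_inv_of_mul_eq_one_right ?_
  rw [← (mulI_spec hi (ivOf_lt i)).2, h i hi, elt_zero]

theorem elt_inj {i j : ℕ} (hi : i < 128) (hj : j < 128) (h : elt i = elt j) : i = j := by
  rw [elt_eq hi, elt_eq hj] at h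
  have h1 : O.val (sc i) = O.val (sc j) := congrArg Subtype.val h
  have hs : sig i = sig j := by
    refine List.map_congr_left fun p hp => ?_
    have hp' : O.ptOk p = true := by
      simp only [List.mem_cons, List.not_mem_nil, or_false] at hp
      rcases hp with rfl | rfl | rfl | rfl | rfl <;> decide +kernel
    obtain ⟨a1, a2⟩ := O.pt_img _ p (code_spec (sc_in hi)).1 hp'
    obtain ⟨b1, b2⟩ := O.pt_img _ p (code_spec (sc_in hj)).1 hp'
    exact O.pt_inj _ _ a2 b2 (by rw [← a1, ← b1, h1])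
  have hn := sig_nodup
  simp only [List.all_eq_true, List.mem_range, Bool.not_eq_true', beq_eq_false_iff_ne] at hn
  rcases lt_trichotomy i j with hlt | heq | hgt
  · exact absurd hs.symm (hn j hj i hlt)
  · exact heq
  · exact absurd hs (hn i hi j hgt)

theorem comI_lt {i j : ℕ} (hi : i < 128) (hj : j < 128) : comI i j < 128 :=
  (mulI_spec (mulI_spec hi hj).1 (ivOf_lt _)).1

theorem elt_comI {i j : ℕ} (hi : i < 128) (hj : j < 128) :
    elt (comI i j) = elt i * elt j * (elt j * elt i)⁻¹ := by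
  rw [comI, (mulI_spec (mulI_spec hi hj).1 (ivOf_lt _)).2,
    elt_ivOf (mulI_spec hj hi).1, (mulI_spec hi hj).2, (mulI_spec hj hi).2]

/-- The Sylow subgroup. -/
noncomputable def sylS : Subgroup (GJ) where
  carrier := {g | ∃ i, i < 128 ∧ elt i = g}
  one_mem' := ⟨0, by norm_num, elt_zero⟩
  mul_mem' := by
    rintro _ _ ⟨i, hi, rfl⟩ ⟨j, hj, rfl⟩
    exact ⟨_, (mulI_spec hi hj).1, (mulI_spec hi hj).2⟩
  inv_mem' := by
    rintro _ ⟨i, hi, rfl⟩
    exact ⟨_, ivOf_lt i, elt_ivOf hi⟩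

theorem mem_sylS {g : GJ} : g ∈ sylS ↔ ∃ i, i < 128 ∧ elt i = g := Iff.rfl

theorem elt_mem {i : ℕ} (hi : i < 128) : elt i ∈ sylS := ⟨i, hi, rfl⟩

theorem card_sylS : Nat.card (sylS) = 128 := by
  refine Eq.trans ?_ (Nat.card_fin 128)
  symm
  refine Nat.card_eq_of_bijective (fun i : Fin 128 => (⟨elt i, elt_mem i.isLt⟩ : sylS))
    ⟨fun i j h => Fin.ext (elt_inj i.isLt j.isLt (congrArg Subtype.val h)), ?_⟩
  rintro ⟨_, i, hi, rfl⟩
  exact ⟨⟨i, hi⟩, rfl⟩

/-- The central involution. -/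
noncomputable def zElt : GJ := elt 1

theorem zElt_comm {g : GJ} (hg : g ∈ sylS) : zElt * g = g * zElt := by
  obtain ⟨i, hi, rfl⟩ := hg
  have h := z_ok
  simp only [Bool.and_eq_true, List.all_eq_true, List.mem_range, Nat.beq_eq] at h
  rw [zElt, ← (mulI_spec (by norm_num) hi).2, h.2 i hi, (mulI_spec hi (by norm_num)).2]

theorem zElt_sq : zElt * zElt = 1 := by
  have h := z_ok
  simp only [Bool.and_eq_true, Nat.beq_eq] at h
  rw [zElt, ← (mulI_spec (by norm_num) (by norm_num)).2, h.1, elt_zero]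

theorem zElt_ne_one : zElt ≠ 1 := fun h =>
  absurd (elt_inj (by norm_num) (by norm_num) (h.trans (elt_zero).symm)) (by norm_num)

/-- The normal extraspecial subgroup. -/
noncomputable def subR : Subgroup (GJ) := Subgroup.closure {g | ∃ i, i < 32 ∧ elt i = g}

theorem mem_subR {g : GJ} : g ∈ subR ↔ ∃ i, i < 32 ∧ elt i = g := by
  refine ⟨fun hg => ?_, fun h => Subgroup.subset_closure h⟩
  have hR := R_ok
  simp only [List.all_eq_true, List.mem_range, Bool.and_eq_true, Nat.blt_eq] at hR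
  have hmul : ∀ {a b : GJ}, (∃ i, i < 32 ∧ elt i = a) → (∃ i, i < 32 ∧ elt i = b) →
      ∃ i, i < 32 ∧ elt i = a * b := by
    rintro _ _ ⟨i, hi, rfl⟩ ⟨j, hj, rfl⟩
    exact ⟨_, (hR i hi j hj).1, (mulI_spec (by omega) (by omega)).2⟩
  let U : Subgroup (GJ) :=
    { carrier := {g | ∃ i, i < 32 ∧ elt i = g}
      one_mem' := ⟨0, by norm_num, elt_zero⟩
      mul_mem' := hmul
      inv_mem' := by
        rintro a ha
        obtain ⟨i, hi, rfl⟩ := ha
        let f : Fin 32 → Fin 32 := fun r => ⟨mulI i r, (hR i hi r r.isLt).1⟩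
        have hf : Function.Injective f := fun r s h => by
          have h1 := congrArg (fun x : Fin 32 => elt x.val) h
          simp only [f, (mulI_spec (show i < 128 by omega) (show r.val < 128 by omega)).2,
            (mulI_spec (show i < 128 by omega) (show s.val < 128 by omega)).2] at h1
          exact Fin.ext (elt_inj (by omega) (by omega) (mul_left_cancel h1))
        obtain ⟨r, hr⟩ := hf.surjective_of_finite (Equiv.refl _) 0
        refine ⟨r, r.isLt, eq_inv_of_mul_eq_one_right ?_⟩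
        rw [← (mulI_spec (by omega) (by omega)).2, show mulI i r = 0 from congrArg Fin.val hr,
          elt_zero] }
  exact (Subgroup.closure_le U).2 (fun x hx => hx) hg

theorem subR_le : subR ≤ sylS := fun g hg => by
  obtain ⟨i, hi, rfl⟩ := (mem_subR).1 hg
  exact elt_mem (by omega)

theorem card_subR : Nat.card (subR) = 32 := by
  refine Eq.trans ?_ (Nat.card_fin 32)
  symm
  refine Nat.card_eq_of_bijective
    (fun i : Fin 32 => (⟨elt i, (mem_subR).2 ⟨i, i.isLt, rfl⟩⟩ : subR))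
    ⟨fun i j h => Fin.ext (elt_inj (by omega) (by omega) (congrArg Subtype.val h)), ?_⟩
  rintro ⟨g, hg⟩
  obtain ⟨i, hi, rfl⟩ := (mem_subR).1 hg
  exact ⟨⟨i, hi⟩, rfl⟩

theorem subR_comm {a b : GJ} (ha : a ∈ subR) (hb : b ∈ subR) :
    a * b * (b * a)⁻¹ = 1 ∨ a * b * (b * a)⁻¹ = zElt := by
  obtain ⟨i, hi, rfl⟩ := (mem_subR).1 ha
  obtain ⟨j, hj, rfl⟩ := (mem_subR).1 hb
  have hR := R_ok
  simp only [List.all_eq_true, List.mem_range, Bool.and_eq_true, Bool.or_eq_true, Nat.beq_eq] at hR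
  rw [← elt_comI (by omega) (by omega)]
  rcases (hR i hi j hj).2 with h | h
  · exact Or.inl (by rw [h, elt_zero])
  · exact Or.inr (by rw [h, zElt])

theorem zElt_mem_subR : zElt ∈ subR := (mem_subR).2 ⟨1, by norm_num, rfl⟩

theorem sylS_le_normalizer_subR {s r : GJ} (hs : s ∈ sylS) (hr : r ∈ subR) :
    s * r * s⁻¹ ∈ subR := by
  obtain ⟨i, hi, rfl⟩ := hs
  obtain ⟨j, hj, rfl⟩ := (mem_subR).1 hr
  have h := R_normal
  simp only [List.all_eq_true, List.mem_range, Nat.blt_eq] at h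
  refine (mem_subR).2 ⟨_, h i hi j hj, ?_⟩
  rw [(mulI_spec (mulI_spec hi (by omega)).1 (ivOf_lt i)).2, elt_ivOf hi,
    (mulI_spec hi (by omega)).2]

/-- Elements with a centraliser of order at least 64 in the Sylow subgroup. -/
theorem large_cent_spec {x : ℕ} (hx : x < 128) (hx2 : 2 ≤ x) (M : Finset ℕ)
    (hM : ∀ y ∈ M, y < 128 ∧ elt x * elt y = elt y * elt x) (hM64 : 64 ≤ M.card) :
    ∃ a ∈ M, ∃ b ∈ M, ∃ c ∈ M, ∃ d ∈ M, comI a b ≠ 0 ∧ comI c d ≠ 0 ∧ comI a b ≠ comI c d := by
  have h := large_cent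
  simp only [List.all_eq_true, List.mem_range, Bool.or_eq_true, Bool.and_eq_true, Nat.blt_eq,
    Nat.beq_eq, List.any_eq_true, List.contains_iff_mem, Bool.not_eq_true'] at h
  have hsub : M ⊆ (centI x).toFinset := by
    intro y hy
    obtain ⟨hy1, hy2⟩ := hM y hy
    rw [List.mem_toFinset, centI, List.mem_filter, List.mem_range, Nat.beq_eq]
    refine ⟨hy1, elt_inj (mulI_spec hx hy1).1 (mulI_spec hy1 hx).1 ?_⟩
    rw [(mulI_spec hx hy1).2, (mulI_spec hy1 hx).2, hy2]
  have hlen : 64 ≤ (centI x).length :=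
    hM64.trans ((Finset.card_le_card hsub).trans (List.toFinset_card_le _))
  rcases h x hx with (h1 | h1) | ⟨h1, e, -, -, hc⟩
  · omega
  · omega
  have heq : M = (centI x).toFinset :=
    Finset.eq_of_subset_of_card_le hsub ((List.toFinset_card_le _).trans (h1.le.trans hM64))
  simp only [List.mem_toFinset, heq]
  obtain ⟨⟨⟨⟨⟨⟨ha, hb⟩, hc'⟩, hd⟩, hab⟩, hcd⟩, hne⟩ := hc
  refine ⟨_, ha, _, hb, _, hc', _, hd, ?_, ?_, ?_⟩
  · intro h0; rw [h0] at hab; simp at hab
  · intro h0; rw [h0] at hcd; simp at hcd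
  · intro h0; rw [h0] at hne; simp at hne

theorem sylS_le_of_gens {T : Subgroup (GJ)} (h : ∀ k, k < 7 → elt (2 ^ k) ∈ T) :
    sylS ≤ T := by
  rintro _ ⟨i, hi, rfl⟩
  obtain ⟨-, h3⟩ := fold_spec i (List.range 7) 0 (fun k hk => List.mem_range.1 hk) (by norm_num)
  have hd := decomp_ok
  simp only [List.all_eq_true, List.mem_range, Nat.beq_eq] at hd
  rw [show (List.range 7).foldl (fun a k => if i.testBit k then stp k a else a) 0 = i from hd i hi,
    elt_zero, one_mul] at h3
  rw [h3]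
  refine Subgroup.list_prod_mem _ fun x hx => ?_
  obtain ⟨k, hk, rfl⟩ := List.mem_map.1 hx
  rw [fac]
  split_ifs
  · exact h k (List.mem_range.1 hk)
  · exact T.one_mem

theorem others : ∀ c ∈ [alphaCode, uCode, vCode] ++ conjZ.map (·.2) ++ conjList.map (·.2.2),
    allCodes.contains c = true := List.all_eq_true.1 others_in

theorem alpha_in : allCodes.contains alphaCode = true := others _ (by simp)

theorem u_in : allCodes.contains uCode = true := others _ (by simp)

theorem v_in : allCodes.contains vCode = true := others _ (by simp)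

theorem conj_elt {i r g : ℕ} (hi : i < 128) (hr : r < 128) (hg : allCodes.contains g = true)
    (he : O.mul g (sc r) = O.mul (sc i) g) : el g hg * elt r * (el g hg)⁻¹ = elt i := by
  rw [elt_eq hr, elt_eq hi, mul_inv_eq_iff_eq_mul]
  apply Subtype.ext
  show O.val g * O.val (sc r) = O.val (sc i) * O.val g
  rw [← O.val_mul _ _ (code_spec hg).1 (code_spec (sc_in hr)).1, he,
    O.val_mul _ _ (code_spec (sc_in hi)).1 (code_spec hg).1]

theorem conjZ_spec {i : ℕ} {g : ℕ} (h : (i, g) ∈ conjZ) :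
    i < 128 ∧ ∃ x : GJ, x * zElt * x⁻¹ = elt i := by
  have hc := conjZ_ok
  simp only [List.all_eq_true, Bool.and_eq_true, Nat.blt_eq, Nat.beq_eq] at hc
  obtain ⟨hi, he⟩ := hc _ h
  have hg : allCodes.contains g = true := others _ (by
    simp only [List.mem_append, List.mem_map]
    exact Or.inl (Or.inr ⟨_, h, rfl⟩))
  exact ⟨hi, el g hg, conj_elt hi (by norm_num) hg he⟩

theorem conjList_spec {e : ℕ × ℕ × ℕ} (h : e ∈ conjList) :
    e.1 < 128 ∧ e.2.1 < 32 ∧ ∃ x : GJ, x * elt e.2.1 * x⁻¹ = elt e.1 := by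
  have hc := conjList_ok
  simp only [List.all_eq_true, Bool.and_eq_true, Nat.blt_eq, Nat.beq_eq] at hc
  obtain ⟨⟨hi, hr⟩, he⟩ := hc _ h
  have hg : allCodes.contains e.2.2 = true := others _ (by
    simp only [List.mem_append, List.mem_map]
    exact Or.inr ⟨_, h, rfl⟩)
  exact ⟨hi, hr, el _ hg, conj_elt hi (by omega) hg he⟩

theorem foldl_mem {T : Subgroup GJ} : ∀ (L : List ℕ) (a : ℕ),
    (∀ i ∈ L, i < 128 ∧ elt i ∈ T) → a < 128 → elt a ∈ T →
      L.foldl mulI a < 128 ∧ elt (L.foldl mulI a) ∈ T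
  | [], _, _, ha, haT => ⟨ha, haT⟩
  | i :: L, a, hL, ha, haT => by
    obtain ⟨hi, hiT⟩ := hL i List.mem_cons_self
    refine foldl_mem L _ (fun j hj => hL j (List.mem_cons_of_mem _ hj)) (mulI_spec ha hi).1 ?_
    rw [(mulI_spec ha hi).2]
    exact T.mul_mem haT hiT

theorem subR_le_of_gens {T : Subgroup GJ} (h : ∀ k, k < 5 → elt (2 ^ k) ∈ T) : subR ≤ T := by
  intro g hg
  obtain ⟨i, hi, rfl⟩ := mem_subR.1 hg
  obtain ⟨-, h3⟩ := fold_spec i (List.range 7) 0 (fun k hk => List.mem_range.1 hk) (by norm_num)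
  have hd := decomp_ok
  simp only [List.all_eq_true, List.mem_range, Nat.beq_eq] at hd
  rw [show (List.range 7).foldl (fun a k => if i.testBit k then stp k a else a) 0 = i from
      hd i (by omega), elt_zero, one_mul] at h3
  rw [h3]
  refine Subgroup.list_prod_mem _ fun x hx => ?_
  obtain ⟨k, hk, rfl⟩ := List.mem_map.1 hx
  rw [fac]
  cases hb : i.testBit k
  · exact T.one_mem
  · refine h k (lt_of_not_ge fun hk5 => ?_)
    have hlt : i < 2 ^ k := lt_of_lt_of_le hi (Nat.pow_le_pow_right (show 0 < 2 by norm_num) hk5)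
    rw [Nat.testBit_lt_two_pow hlt] at hb
    exact Bool.false_ne_true hb

/-- The element of order three. -/
noncomputable def alphaElt : GJ := el alphaCode alpha_in

/-- The involution of the factorisation. -/
noncomputable def uElt : GJ := el uCode u_in

/-- The other factor. -/
noncomputable def vElt : GJ := el vCode v_in

theorem alpha_facts : uElt * vElt = alphaElt ∧ alphaElt ^ 3 = 1 ∧
    uElt ^ 2 ^ 1 = 1 ∧ vElt ^ 2 ^ 3 = 1 := by
  have h := alpha_ok
  simp only [Bool.and_eq_true, Nat.beq_eq] at h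
  obtain ⟨⟨⟨h1, h2⟩, h3⟩, h4⟩ := h
  have ha := (code_spec alpha_in).1
  have hu := (code_spec u_in).1
  have hv := (code_spec v_in).1
  have hv2 := O.ok_mul _ _ hv hv
  have hv4 := O.ok_mul _ _ hv2 hv2
  refine ⟨Subtype.ext ?_, Subtype.ext ?_, Subtype.ext ?_, Subtype.ext ?_⟩
  · show O.val uCode * O.val vCode = O.val alphaCode
    rw [← O.val_mul _ _ hu hv, h1]
  · show O.val alphaCode ^ 3 = 1
    rw [pow_succ', _root_.sq, ← O.val_mul _ _ ha ha, ← O.val_mul _ _ ha (O.ok_mul _ _ ha ha), h2, O.val_one]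
  · show O.val uCode ^ 2 = 1
    rw [_root_.sq, ← O.val_mul _ _ hu hu, h3, O.val_one]
  · show O.val vCode ^ 8 = 1
    rw [show (8 : ℕ) = 2 * 2 * 2 by norm_num, pow_mul, pow_mul, _root_.sq, _root_.sq, _root_.sq,
      ← O.val_mul _ _ hv hv, ← O.val_mul _ _ hv2 hv2, ← O.val_mul _ _ hv4 hv4, h4, O.val_one]

theorem alpha_conj {k : ℕ} (hk : k < 7) : alphaPerm.getD k 0 < 128 ∧
    alphaElt * elt (2 ^ k) * (alphaElt)⁻¹ = elt (alphaPerm.getD k 0) := by
  have h := alpha_norm
  simp only [List.all_eq_true, List.mem_range, Bool.and_eq_true, Nat.blt_eq, Nat.beq_eq] at h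
  obtain ⟨h1, h2⟩ := h k hk
  have hk' : 2 ^ k < 128 := Nat.pow_lt_pow_right (a := 2) (n := 7) (by norm_num) hk
  refine ⟨h1, ?_⟩
  rw [elt_eq hk', elt_eq h1, mul_inv_eq_iff_eq_mul]
  apply Subtype.ext
  show O.val alphaCode * O.val (sc (2 ^ k)) = O.val (sc _) * O.val alphaCode
  rw [← O.val_mul _ _ (code_spec alpha_in).1 (code_spec (sc_in hk')).1, h2,
    O.val_mul _ _ (code_spec (sc_in h1)).1 (code_spec alpha_in).1]

theorem uv_conjR {g : GJ} (hg : g = uElt ∨ g = vElt) {r : GJ} (hr : r ∈ subR) :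
    g * r * g⁻¹ ∈ subR := by
  obtain ⟨i, hi, rfl⟩ := (mem_subR).1 hr
  have h := uv_normR
  simp only [List.all_cons, List.all_nil, Bool.and_true, Bool.and_eq_true, List.all_eq_true,
    List.mem_range, List.any_eq_true, Nat.beq_eq] at h
  obtain ⟨c, hc, hgc, hcr⟩ : ∃ c, ∃ hc : allCodes.contains c = true, g = el c hc ∧
      ∀ r < 32, ∃ r' < 32, O.mul c (sc r) = O.mul (sc r') c := by
    rcases hg with rfl | rfl
    exacts [⟨_, u_in, rfl, h.1⟩, ⟨_, v_in, rfl, h.2⟩]
  obtain ⟨r', hr', he⟩ := hcr i hi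
  refine (mem_subR).2 ⟨r', hr', ?_⟩
  rw [hgc, elt_eq (show r' < 128 by omega), elt_eq (show i < 128 by omega), eq_mul_inv_iff_mul_eq]
  apply Subtype.ext
  show O.val (sc r') * O.val c = O.val c * O.val (sc i)
  rw [← O.val_mul _ _ (code_spec hc).1 (code_spec (sc_in (show i < 128 by omega))).1, he,
    O.val_mul _ _ (code_spec (sc_in (show r' < 128 by omega))).1 (code_spec hc).1]

end CfsgLib.Fusion.J2Simple
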